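import Groth.Agent.S9405
import Groth.Agent.LC.PuncturedDim
import Mathlib.RingTheory.Etale.Basic
import Mathlib.RingTheory.Ideal.GoingDown
import Mathlib.RingTheory.Flat.FaithfullyFlat.Algebra
import Mathlib.RingTheory.Spectrum.Prime.Topology

/-!
Extending clopen subsets of punctured spectra of finite étale algebras, through a completion.
-/

universe u

open IsLocalRing TensorProduct Topology

set_option linter.style.haveILetI false

namespace Groth.Agent.PunctCompl

section semilocal

variable (R D : Type u) [CommRing R] [IsLocalRing R] [CommRing D] [Algebra R D] [Module.Finite R D]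

/-- The punctured part of the spectrum of a finite algebra over a local ring. -/
abbrev punctPart : Set (PrimeSpectrum D) :=
  PrimeSpectrum.comap (algebraMap R D) ⁻¹' LC.punct R

/-- Clopen subsets of the punctured part extend, for products of local rings with preconnected
punctured spectra. -/
theorem exists_clopen_of_split [IsNoetherianRing D] (hfin : Finite (MaximalSpectrum D))
    (hbij : Function.Bijective (algebraMap D ((m : MaximalSpectrum D) → Localization.AtPrime m.asIdeal)))
    (hconn : ∀ m : MaximalSpectrum D, IsPreconnected (LC.punct (Localization.AtPrime m.asIdeal)))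
    (C : Set (PrimeSpectrum D)) (hC : C ⊆ punctPart R D) (hCo : IsOpen C) (hCc : IsOpen (punctPart R D \ C)) :
    ∃ G : Set (PrimeSpectrum D), IsClopen G ∧ G ∩ punctPart R D = C := by
  classical
  haveI := hfin
  let K : MaximalSpectrum D → Set (PrimeSpectrum D) := fun m => {p | p.asIdeal ≤ m.asIdeal}
  have hsurj : ∀ m : MaximalSpectrum D, Function.Surjective (algebraMap D (Localization.AtPrime m.asIdeal)) := by
    intro m y
    obtain ⟨x, hx⟩ := hbij.2 (Pi.single m y)
    refine ⟨x, ?_⟩
    have := congrFun hx m
    simpa using this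
  have hrange : ∀ m : MaximalSpectrum D,
      Set.range (PrimeSpectrum.comap (algebraMap D (Localization.AtPrime m.asIdeal))) = K m := by
    intro m
    rw [PrimeSpectrum.localization_comap_range (Localization.AtPrime m.asIdeal) m.asIdeal.primeCompl]
    ext p
    exact Set.disjoint_left.trans ⟨fun h x hx => not_not.1 fun hxm => h hxm hx, fun h x hxm hx => hxm (h hx)⟩
  have hKclosed : ∀ m, IsClosed (K m) := fun m => by
    rw [← hrange m]
    exact PrimeSpectrum.isClosed_range_comap_of_surjective _ _ (hsurj m)
  have huniq : ∀ (p : PrimeSpectrum D) (m m' : MaximalSpectrum D), p ∈ K m → p ∈ K m' → m = m' := by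
    intro p m m' hm hm'
    by_contra hne
    obtain ⟨b, hb⟩ := hbij.2 (Pi.single m 1)
    have hz : ∀ (n : MaximalSpectrum D) (x : D), algebraMap D (Localization.AtPrime n.asIdeal) x = 0 → p ∈ K n →
        x ∈ p.asIdeal := by
      intro n x hx hn
      obtain ⟨t, ht⟩ := (IsLocalization.map_eq_zero_iff n.asIdeal.primeCompl _ x).1 hx
      refine (p.isPrime.mem_or_mem (show (t : D) * x ∈ p.asIdeal from ht ▸ zero_mem _)).resolve_left fun h => ?_
      exact t.2 (hn h)
    have h1 : algebraMap D (Localization.AtPrime m'.asIdeal) b = 0 := by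
      have := congrFun hb m'
      rwa [Pi.single_eq_of_ne (Ne.symm hne)] at this
    have h2 : algebraMap D (Localization.AtPrime m.asIdeal) (1 - b) = 0 := by
      have := congrFun hb m
      rw [Pi.single_eq_same] at this
      rw [map_sub, map_one, show algebraMap D (Localization.AtPrime m.asIdeal) b = 1 from this, sub_self]
    exact p.isPrime.ne_top ((Ideal.eq_top_iff_one _).2 (by simpa using add_mem (hz m' b h1 hm') (hz m _ h2 hm)))
  have hcov : ∀ p : PrimeSpectrum D, ∃ m, p ∈ K m := fun p => by
    obtain ⟨M, hM, hpM⟩ := Ideal.exists_le_maximal p.asIdeal p.isPrime.ne_top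
    exact ⟨⟨M, hM⟩, hpM⟩
  have hKU : ∀ m : MaximalSpectrum D, K m ∩ punctPart R D =
      PrimeSpectrum.comap (algebraMap D (Localization.AtPrime m.asIdeal)) '' LC.punct (Localization.AtPrime m.asIdeal) := by
    intro m
    ext p
    have key : p ∈ punctPart R D ↔ ¬ p.asIdeal.IsMaximal := by
      refine not_congr ⟨fun h => ?_, fun h => ?_⟩
      · haveI : (Ideal.under R p.asIdeal).IsMaximal := by
          rw [show Ideal.under R p.asIdeal = maximalIdeal R from congrArg PrimeSpectrum.asIdeal h]
          exact maximalIdeal.isMaximal R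
        exact Ideal.IsMaximal.of_liesOver_isMaximal p.asIdeal (Ideal.under R p.asIdeal)
      · haveI := h
        exact PrimeSpectrum.ext (eq_maximalIdeal (Ideal.IsMaximal.under R p.asIdeal))
    have key' : ∀ q : PrimeSpectrum (Localization.AtPrime m.asIdeal), q = closedPoint _ ↔
        (PrimeSpectrum.comap (algebraMap D _) q).asIdeal.IsMaximal := by
      intro q
      constructor
      · rintro rfl
        exact Ideal.comap_isMaximal_of_surjective _ (hsurj m) (H := maximalIdeal.isMaximal _)
      · intro h
        refine PrimeSpectrum.ext (eq_maximalIdeal ?_)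
        refine (Ideal.map_eq_top_or_isMaximal_of_surjective _ (hsurj m) h).elim (fun h' => ?_) fun h' => ?_
        · rw [show (PrimeSpectrum.comap (algebraMap D _) q).asIdeal = Ideal.comap (algebraMap D _) q.asIdeal from rfl,
            Ideal.map_comap_of_surjective _ (hsurj m)] at h'
          exact absurd h' q.isPrime.ne_top
        · rwa [show (PrimeSpectrum.comap (algebraMap D _) q).asIdeal = Ideal.comap (algebraMap D _) q.asIdeal from rfl,
            Ideal.map_comap_of_surjective _ (hsurj m)] at h'
    constructor
    · rintro ⟨hp, hpU⟩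
      rw [← hrange m] at hp
      obtain ⟨q, rfl⟩ := hp
      exact ⟨q, fun h => key.1 hpU ((key' q).1 h), rfl⟩
    · rintro ⟨q, hq, rfl⟩
      exact ⟨(hrange m).le ⟨q, rfl⟩, key.2 fun h => hq ((key' q).2 h)⟩
  let T : Set (MaximalSpectrum D) := {m | (C ∩ K m).Nonempty}
  have hin : ∀ m ∈ T, K m ∩ punctPart R D ⊆ C := by
    rintro m ⟨p, hpC, hpK⟩
    have hpre : IsPreconnected (K m ∩ punctPart R D) :=
      hKU m ▸ (hconn m).image _ (PrimeSpectrum.continuous_comap _).continuousOn
    exact hpre.subset_left_of_subset_union hCo hCc Set.disjoint_sdiff_right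
      (fun q hq => (em (q ∈ C)).imp id fun h => ⟨hq.2, h⟩) ⟨p, ⟨hpK, hC hpC⟩, hpC⟩
  refine ⟨⋃ m ∈ T, K m, ⟨T.toFinite.isClosed_biUnion fun m _ => hKclosed m, ?_⟩, ?_⟩
  · have : (⋃ m ∈ T, K m)ᶜ = ⋃ m ∈ Tᶜ, K m := by
      ext p
      simp only [Set.mem_compl_iff, Set.mem_iUnion₂, exists_prop]
      constructor
      · intro h
        obtain ⟨m, hm⟩ := hcov p
        exact ⟨m, fun hT => h ⟨m, hT, hm⟩, hm⟩
      · rintro ⟨m, hmT, hm⟩ ⟨m', hm'T, hm'⟩
        exact hmT (huniq p m m' hm hm' ▸ hm'T)
    rw [← isClosed_compl_iff, this]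
    exact Tᶜ.toFinite.isClosed_biUnion fun m _ => hKclosed m
  · ext p
    constructor
    · rintro ⟨hp, hpU⟩
      obtain ⟨m, hmT, hm⟩ := Set.mem_iUnion₂.1 hp
      exact hin m hmT ⟨hm, hpU⟩
    · intro hp
      obtain ⟨m, hm⟩ := hcov p
      exact ⟨Set.mem_iUnion₂.2 ⟨m, ⟨p, hp, hm⟩, hm⟩, hC hp⟩

end semilocal

/-- Clopen subsets of the punctured part of a finite étale algebra extend, if this holds over a
complete faithfully flat extension with the same residue field. -/
theorem exists_clopen_of_completion (A : Type u) [CommRing A] [IsLocalRing A]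
    (S : Type u) [CommRing S] [IsLocalRing S] [IsNoetherianRing S] [IsAdicComplete (maximalIdeal S) S]
    (R : Type u) [CommRing R] [IsLocalRing R] [Algebra S R] [Module.Finite S R] [Algebra A R]
    [Module.FaithfullyFlat A R] [IsLocalHom (algebraMap A R)]
    (hmap : (maximalIdeal A).map (algebraMap A R) = maximalIdeal R)
    (hres : ∀ r : R, ∃ a : A, r - algebraMap A R a ∈ maximalIdeal R)
    (hconn : ∀ (L : Type u) [CommRing L] [Algebra R L] [Module.Finite R L] [Algebra.Etale R L] [IsLocalRing L],
      IsPreconnected (LC.punct L))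
    (B : Type u) [CommRing B] [Algebra A B] [Module.Finite A B] [Algebra.Etale A B]
    (C : Set (PrimeSpectrum B)) (hC : C ⊆ punctPart A B) (hCo : IsOpen C) (hCc : IsOpen (punctPart A B \ C)) :
    ∃ G : Set (PrimeSpectrum B), IsClopen G ∧ G ∩ punctPart A B = C := by
  let D := R ⊗[A] B
  letI : Algebra B D := Algebra.TensorProduct.rightAlgebra
  haveI : IsScalarTower S R D := TensorProduct.isScalarTower_left
  haveI : Module.Finite S D := Module.Finite.trans R D
  haveI : IsNoetherianRing D := IsNoetherianRing.of_finite S D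
  obtain ⟨hfin, hbij, -⟩ := Groth.Agent.S9405.result S D
  haveI : Module.FaithfullyFlat B D :=
    Module.FaithfullyFlat.of_linearEquiv B (B ⊗[A] R) (Algebra.TensorProduct.commRight A B R).symm.toLinearEquiv
  let π : PrimeSpectrum D → PrimeSpectrum B := PrimeSpectrum.comap (algebraMap B D)
  have hπs : Function.Surjective π := PrimeSpectrum.comap_surjective_of_faithfullyFlat
  have hπq : IsQuotientMap π := PrimeSpectrum.isQuotientMap_of_generalizingMap hπs
    (Algebra.HasGoingDown.iff_generalizingMap_primeSpectrumComap.1 inferInstance)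
  have hcomm : ∀ a : A, algebraMap R D (algebraMap A R a) = algebraMap B D (algebraMap A B a) := fun a => by
    show algebraMap A R a ⊗ₜ[A] (1 : B) = (1 : R) ⊗ₜ[A] algebraMap A B a
    rw [Algebra.algebraMap_eq_smul_one, Algebra.algebraMap_eq_smul_one, smul_tmul]
  have hU : ∀ q : PrimeSpectrum D, q ∈ punctPart R D ↔ π q ∈ punctPart A B := by
    intro q
    refine not_congr ⟨fun h => ?_, fun h => ?_⟩
    · have h' : q.asIdeal.comap (algebraMap R D) = maximalIdeal R := congrArg PrimeSpectrum.asIdeal h
      refine PrimeSpectrum.ext (Ideal.ext fun a => ?_)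
      show algebraMap B D (algebraMap A B a) ∈ q.asIdeal ↔ a ∈ maximalIdeal A
      rw [← hcomm, ← Ideal.mem_comap, h', ← (show (maximalIdeal R).comap (algebraMap A R) = maximalIdeal A from ((local_hom_TFAE (algebraMap A R)).out 0 4).1 ‹IsLocalHom (algebraMap A R)›),
        Ideal.mem_comap]
    · have h' : (π q).asIdeal.comap (algebraMap A B) = maximalIdeal A := congrArg PrimeSpectrum.asIdeal h
      refine PrimeSpectrum.ext ((maximalIdeal.isMaximal R).eq_of_le (Ideal.IsPrime.comap _).ne_top ?_).symm
      rw [← hmap, Ideal.map_le_iff_le_comap, ← h']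
      intro a ha
      show algebraMap R D (algebraMap A R a) ∈ q.asIdeal
      rw [hcomm]
      exact ha
  obtain ⟨G', hG', hG'C⟩ := exists_clopen_of_split R D hfin hbij (fun m => by
      haveI : Algebra.FormallyEtale D (Localization.AtPrime m.asIdeal) :=
        Algebra.FormallyEtale.of_isLocalization m.asIdeal.primeCompl
      have hsurj : Function.Surjective (algebraMap D (Localization.AtPrime m.asIdeal)) := by
        classical
        intro y
        obtain ⟨x, hx⟩ := hbij.2 (Pi.single m y)
        exact ⟨x, by simpa using congrFun hx m⟩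
      haveI : Module.Finite D (Localization.AtPrime m.asIdeal) :=
        Module.Finite.of_surjective (Algebra.linearMap D (Localization.AtPrime m.asIdeal)) hsurj
      haveI : Algebra.FinitePresentation D (Localization.AtPrime m.asIdeal) :=
        Algebra.FinitePresentation.of_finiteType.1 inferInstance
      haveI : Algebra.Etale D (Localization.AtPrime m.asIdeal) := ⟨inferInstance, inferInstance⟩
      haveI : Algebra.Etale R (Localization.AtPrime m.asIdeal) := Algebra.Etale.comp R D _
      haveI : Module.Finite R (Localization.AtPrime m.asIdeal) := Module.Finite.trans D _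
      exact hconn (Localization.AtPrime m.asIdeal))
    (π ⁻¹' C) (fun q hq => (hU q).2 (hC hq)) (hCo.preimage (PrimeSpectrum.continuous_comap _))
    (by
      have : punctPart R D \ π ⁻¹' C = π ⁻¹' (punctPart A B \ C) := by
        ext q
        simp only [Set.mem_sdiff, Set.mem_preimage]
        exact and_congr_left fun _ => hU q
      rw [this]
      exact hCc.preimage (PrimeSpectrum.continuous_comap _))
  -- `π` is injective on the closed fibre
  have hinj : ∀ q q' : PrimeSpectrum D, π q = π q' → q ∉ punctPart R D → q' ∉ punctPart R D → q = q' := by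
    have key : ∀ q q' : PrimeSpectrum D, π q = π q' → q ∉ punctPart R D → q' ∉ punctPart R D →
        q.asIdeal ≤ q'.asIdeal := by
      intro q q' he hq hq' x hx
      have hm : ∀ z : PrimeSpectrum D, z ∉ punctPart R D → (maximalIdeal R).map (algebraMap R D) ≤ z.asIdeal := by
        intro z hz
        rw [Ideal.map_le_iff_le_comap]
        exact (congrArg PrimeSpectrum.asIdeal (not_not.1 hz)).ge
      have happ : ∀ x : D, ∃ b : B, x - algebraMap B D b ∈ (maximalIdeal R).map (algebraMap R D) := by
        intro x
        induction x using TensorProduct.induction_on with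
        | zero => exact ⟨0, by simp⟩
        | tmul r b =>
          obtain ⟨a, ha⟩ := hres r
          refine ⟨algebraMap A B a * b, ?_⟩
          have : r ⊗ₜ[A] b - algebraMap B D (algebraMap A B a * b) =
              algebraMap R D (r - algebraMap A R a) * algebraMap B D b := by
            rw [map_mul, map_sub, sub_mul, hcomm]
            congr 1
            show r ⊗ₜ[A] b = r ⊗ₜ[A] (1 : B) * (1 : R) ⊗ₜ[A] b
            rw [Algebra.TensorProduct.tmul_mul_tmul, mul_one, one_mul]
          rw [this]
          exact Ideal.mul_mem_right _ _ (Ideal.mem_map_of_mem _ ha)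
        | add x y hx' hy' =>
          obtain ⟨b, hb⟩ := hx'
          obtain ⟨b', hb'⟩ := hy'
          exact ⟨b + b', by rw [map_add, add_sub_add_comm]; exact add_mem hb hb'⟩
      obtain ⟨b, hb⟩ := happ x
      have h1 : algebraMap B D b ∈ q.asIdeal := by
        have := sub_mem hx (hm q hq hb)
        rwa [sub_sub_cancel] at this
      have h2 : algebraMap B D b ∈ q'.asIdeal := (SetLike.ext_iff.1 (congrArg PrimeSpectrum.asIdeal he) b).1 h1
      have := add_mem h2 (hm q' hq' hb)
      rwa [add_sub_cancel] at this
    exact fun q q' he hq hq' => PrimeSpectrum.ext (le_antisymm (key q q' he hq hq') (key q' q he.symm hq' hq))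
  have hsat : ∀ q q' : PrimeSpectrum D, π q = π q' → q ∈ G' → q' ∈ G' := by
    intro q q' he hq
    by_cases hqU : q ∈ punctPart R D
    · have hq'U : q' ∈ punctPart R D := (hU q').2 (he ▸ (hU q).1 hqU)
      have hqC : π q' ∈ C := he ▸ hG'C.subset ⟨hq, hqU⟩
      exact (hG'C.symm.subset hqC).1
    · exact hinj q q' he hqU (fun h => hqU ((hU q).2 (he.symm ▸ (hU q').1 h))) ▸ hq
  have hpre : π ⁻¹' (π '' G') = G' :=
    Set.Subset.antisymm (fun q ⟨q', hq', he⟩ => hsat q' q he hq') (Set.subset_preimage_image π G')
  refine ⟨π '' G', ⟨?_, ?_⟩, ?_⟩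
  · rw [← hπq.isClosed_preimage, hpre]; exact hG'.1
  · rw [← hπq.isOpen_preimage, hpre]; exact hG'.2
  · ext p
    obtain ⟨q, rfl⟩ := hπs p
    constructor
    · rintro ⟨⟨q', hq', he⟩, hp⟩
      have := hG'C.subset ⟨hsat q' q he hq', (hU q).2 hp⟩
      exact this
    · intro hp
      exact ⟨⟨q, (hG'C.symm.subset hp).1, rfl⟩, hC hp⟩

end Groth.Agent.PunctCompl
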