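import Groth.Agent.PunctCompl.Section
import Groth.Agent.PunctCompl.Clopen
import Groth.Agent.Pi1X.FEtFull
import Groth.Agent.Adic7.Lift
import Groth.Prelude.Def_FEt
import Mathlib.RingTheory.AdicCompletion.LocalRing
import Mathlib.RingTheory.AdicCompletion.AsTensorProduct
import Mathlib.AlgebraicGeometry.Morphisms.Finite
import Mathlib.AlgebraicGeometry.Morphisms.Etale

/-!
Full faithfulness of restriction to the punctured spectrum when the completion is cut out of a
regular ring by few equations.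
-/

universe u

open CategoryTheory CategoryTheory.Limits AlgebraicGeometry IsLocalRing

set_option linter.style.haveILetI false

namespace Groth.Agent.PunctCompl

section

variable (A : Type u) [CommRing A] [IsNoetherianRing A] [IsLocalRing A]
  (S : Type u) [CommRing S] [IsRegularLocalRing S] [IsAdicComplete (maximalIdeal S) S]
  (d : ℕ) (hd : ringKrullDim S = d) (s : Finset S) (hs : s.card + 2 ≤ d)
  (e : AdicCompletion (maximalIdeal A) A ≃+* S ⧸ Ideal.span (s : Set S))

include hd hs e

theorem exists_clopen (B : Type u) [CommRing B] [Algebra A B] [Module.Finite A B] [Algebra.Etale A B]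
    (C : Set (PrimeSpectrum B)) (hC : C ⊆ punctPart A B) (hCo : IsOpen C) (hCc : IsOpen (punctPart A B \ C)) :
    ∃ G : Set (PrimeSpectrum B), IsClopen G ∧ G ∩ punctPart A B = C := by
  let R := AdicCompletion (maximalIdeal A) A
  letI : Algebra S R := (e.symm.toRingHom.comp (Ideal.Quotient.mk _)).toAlgebra
  haveI : Module.Finite S R := Module.Finite.of_surjective (Algebra.linearMap S R)
    (e.symm.surjective.comp Ideal.Quotient.mk_surjective)
  haveI : IsLocalHom (algebraMap A R) := inferInstance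
  haveI : Module.Flat A R := AdicCompletion.flat_of_isNoetherian _
  haveI : Module.FaithfullyFlat A R := Module.FaithfullyFlat.of_flat_of_isLocalHom
  refine exists_clopen_of_completion A S R (AdicCompletion.maximalIdeal_eq_map (R := A)).symm (fun r => ?_) ?_ B C hC hCo hCc
  · obtain ⟨a, ha⟩ := Adic7.exists_sub_algebraMap_mem (maximalIdeal A) (IsNoetherian.noetherian _) r 1
    exact ⟨a, by rwa [pow_one, ← AdicCompletion.maximalIdeal_eq_map] at ha⟩
  · intro L _ _ _ _ _
    letI : Algebra (S ⧸ Ideal.span (s : Set S)) R := e.symm.toRingHom.toAlgebra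
    letI : Algebra (S ⧸ Ideal.span (s : Set S)) L := ((algebraMap R L).comp e.symm.toRingHom).toAlgebra
    haveI : IsScalarTower (S ⧸ Ideal.span (s : Set S)) R L := IsScalarTower.of_algebraMap_eq fun _ => rfl
    let e' : (S ⧸ Ideal.span (s : Set S)) ≃ₐ[S ⧸ Ideal.span (s : Set S)] R :=
      AlgEquiv.ofRingEquiv (f := e.symm) (fun _ => rfl)
    haveI : Algebra.Etale (S ⧸ Ideal.span (s : Set S)) R := Algebra.Etale.of_equiv e'
    haveI : Module.Finite (S ⧸ Ideal.span (s : Set S)) R := Module.Finite.equiv e'.toLinearEquiv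
    haveI : Algebra.Etale (S ⧸ Ideal.span (s : Set S)) L := Algebra.Etale.comp _ R L
    haveI : Module.Finite (S ⧸ Ideal.span (s : Set S)) L := Module.Finite.trans R L
    exact preconnected_punct_of_section S d hd s hs L

theorem punct_nonempty : (LC.punct A).Nonempty := by
  classical
  by_contra hempty
  rw [Set.not_nonempty_iff_eq_empty] at hempty
  let R := AdicCompletion (maximalIdeal A) A
  have hall : ∀ P : Ideal R, P.IsPrime → P = maximalIdeal R := fun P hP => by
    refine ((maximalIdeal.isMaximal R).eq_of_le hP.ne_top ?_).symm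
    rw [AdicCompletion.maximalIdeal_eq_map, Ideal.map_le_iff_le_comap]
    have : (⟨P.comap (algebraMap A R), Ideal.IsPrime.comap _⟩ : PrimeSpectrum A) = closedPoint A :=
      not_not.1 fun h => Set.eq_empty_iff_forall_notMem.1 hempty _ h
    exact (congrArg PrimeSpectrum.asIdeal this).ge
  let I := Ideal.span (s : Set S)
  have hI : I ≠ ⊤ := fun h => by
    haveI : Subsingleton (S ⧸ I) := Ideal.Quotient.subsingleton_iff.2 h
    haveI := e.toEquiv.subsingleton
    exact not_subsingleton R ‹_›
  haveI := (maximalIdeal.isMaximal S).isPrime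
  obtain ⟨P, hP, hPm⟩ := Ideal.exists_minimalPrimes_le (le_maximalIdeal hI)
  haveI := hP.1.1
  have hne : P = maximalIdeal S := by
    have h2 : (P.map (Ideal.Quotient.mk I)).IsPrime :=
      Ideal.map_isPrime_of_surjective Ideal.Quotient.mk_surjective (by rw [Ideal.mk_ker]; exact hP.1.2)
    have h1 := hall ((P.map (Ideal.Quotient.mk I)).comap e.toRingHom) inferInstance
    have hm : ((P.map (Ideal.Quotient.mk I)).comap e.toRingHom).IsMaximal := h1 ▸ maximalIdeal.isMaximal R
    have h3 : P.map (Ideal.Quotient.mk I) = ((P.map (Ideal.Quotient.mk I)).comap e.toRingHom).comap e.symm.toRingHom :=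
      Ideal.ext fun b => by
        show b ∈ _ ↔ e (e.symm b) ∈ P.map (Ideal.Quotient.mk I)
        rw [e.apply_symm_apply]
    haveI : (P.map (Ideal.Quotient.mk I)).IsMaximal := h3 ▸ Ideal.comap_isMaximal_of_surjective _ e.symm.surjective
    have h4 := eq_maximalIdeal (Ideal.comap_isMaximal_of_surjective (Ideal.Quotient.mk I) Ideal.Quotient.mk_surjective (K := P.map (Ideal.Quotient.mk I)))
    rwa [Ideal.comap_map_of_surjective' _ Ideal.Quotient.mk_surjective, Ideal.mk_ker, sup_eq_left.2 hP.1.2] at h4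
  have hht : P.height ≤ (s.card : ℕ∞) := by
    refine (Ideal.height_le_spanRank_toENat_of_mem_minimalPrimes _ _ hP).trans ?_
    rw [Submodule.fg_iff_spanRank_eq_spanFinrank.mpr (IsNoetherian.noetherian _), map_natCast]
    refine Nat.cast_le.2 ((Submodule.spanFinrank_span_le_ncard_of_finite s.finite_toSet).trans ?_)
    rw [Set.ncard_coe_finset]
  have hdim := IsLocalRing.maximalIdeal_height_eq_ringKrullDim (R := S)
  rw [hd, ← hne] at hdim
  have : P.height = (d : ℕ∞) := WithBot.coe_injective hdim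
  rw [this, Nat.cast_le] at hht
  omega

theorem main : ((FEt.restrict (FEt.puncturedSpec A).ι).Full ∧ (FEt.restrict (FEt.puncturedSpec A).ι).Faithful) ∧
      ConnectedSpace ↥(FEt.puncturedSpec A : Scheme.{u}) := by
  have hext := exists_clopen A S d hd s hs e
  have hne := punct_nonempty A S d hd s hs e
  have hconn : _root_.IsConnected (LC.punct A) := by
    refine ⟨hne, fun u v hu hv hcov ⟨x, hxU, hxu⟩ ⟨y, hyU, hyv⟩ => ?_⟩
    by_contra hempty
    rw [Set.not_nonempty_iff_eq_empty] at hempty
    have hp : punctPart A A = LC.punct A := by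
      ext p
      show PrimeSpectrum.comap (RingHom.id A) p ∈ _ ↔ _
      exact Iff.rfl
    have hsd : punctPart A A \ (LC.punct A ∩ u) = LC.punct A ∩ v := by
      rw [hp]
      ext p
      refine ⟨fun ⟨hpU, hpu⟩ => ⟨hpU, (hcov hpU).resolve_left fun h => hpu ⟨hpU, h⟩⟩, fun ⟨hpU, hpv⟩ => ⟨hpU, fun h => ?_⟩⟩
      exact Set.eq_empty_iff_forall_notMem.1 hempty p ⟨hpU, h.2, hpv⟩
    obtain ⟨G, hG, hGC⟩ := hext A (LC.punct A ∩ u) (hp.symm ▸ Set.inter_subset_left) (LC.isOpen_punct.inter hu)
      (hsd ▸ LC.isOpen_punct.inter hv)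
    rw [hp] at hGC
    have hxG : x ∈ G := (hGC.symm.subset ⟨hxU, hxu⟩).1
    have hall : (Set.univ : Set (PrimeSpectrum A)) ⊆ G :=
      LC.preconnected_spec.subset_isClopen hG ⟨x, trivial, hxG⟩
    exact Set.eq_empty_iff_forall_notMem.1 hempty y ⟨hyU, (hGC.subset ⟨hall trivial, hyU⟩).2, hyv⟩
  haveI : ConnectedSpace ↥(FEt.puncturedSpec A : Scheme.{u}) := by
    show ConnectedSpace ↥(LC.punct A)
    exact isConnected_iff_connectedSpace.1 hconn
  refine ⟨?_, inferInstance⟩
  have hh : ∀ C : Set ↥(Spec (CommRingCat.of A)), IsClopen C → C.Nonempty →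
      (C ∩ Set.range (FEt.puncturedSpec A).ι.base).Nonempty := by
    intro C hC hCne
    rw [Scheme.Opens.range_ι]
    have : C = Set.univ := Set.eq_univ_of_forall fun z =>
      LC.preconnected_spec.subset_isClopen hC ⟨_, trivial, hCne.some_mem⟩ trivial
    obtain ⟨z, hz⟩ := hne
    exact ⟨z, this ▸ trivial, hz⟩
  refine ⟨Pi1X.restrict_full _ hh fun W C hC => ?_, Pi1X.restrict_faithful _ hh⟩
  let i := (FEt.puncturedSpec A).ι
  haveI : IsFinite W.hom := W.prop.1
  haveI : Etale W.hom := W.prop.2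
  let g : W.left ⟶ Spec (CommRingCat.of A) := W.hom
  haveI : IsAffine W.left := isAffine_of_isAffineHom g
  let φ : CommRingCat.of A ⟶ Γ(W.left, ⊤) := Spec.preimage (W.left.isoSpec.inv ≫ g)
  have hφ : Spec.map φ = W.left.isoSpec.inv ≫ g := Spec.map_preimage _
  letI : Algebra A Γ(W.left, ⊤) := φ.hom.toAlgebra
  haveI : IsFinite (Spec.map φ) := by
    rw [hφ]
    haveI : IsFinite g := W.prop.1
    infer_instance
  haveI : Etale (Spec.map φ) := by
    rw [hφ]
    haveI : Etale g := W.prop.2
    infer_instance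
  haveI : Module.Finite A Γ(W.left, ⊤) := (IsFinite.SpecMap_iff φ).1 ‹_›
  haveI : Algebra.Etale A Γ(W.left, ⊤) := RingHom.etale_algebraMap.1 ((HasRingHomProperty.Spec_iff (P := @Etale)).1 ‹Etale (Spec.map φ)›)
  let j := pullback.fst W.hom i
  let k : pullback W.hom i ⟶ Spec Γ(W.left, ⊤) := j ≫ W.left.isoSpec.hom
  have hrk : Set.range k.base = punctPart A Γ(W.left, ⊤) := by
    have hj : Set.range j.base = g.base ⁻¹' (FEt.puncturedSpec A : Set _) := by
      rw [Scheme.Pullback.range_fst, Scheme.Opens.range_ι]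
    ext p
    have h1 : (punctPart A Γ(W.left, ⊤)) = (W.left.isoSpec.inv ≫ g).base ⁻¹' (FEt.puncturedSpec A : Set _) := by
      rw [← hφ]; rfl
    rw [h1]
    constructor
    · rintro ⟨q, rfl⟩
      rw [Set.mem_preimage]
      show (W.left.isoSpec.inv ≫ g).base ((j ≫ W.left.isoSpec.hom).base q) ∈ _
      rw [← Scheme.Hom.comp_apply, Category.assoc, Iso.hom_inv_id_assoc, Scheme.Hom.comp_apply]
      exact hj.subset ⟨q, rfl⟩
    · intro hp
      obtain ⟨q, hq⟩ : W.left.isoSpec.inv.base p ∈ Set.range j.base := hj.symm.subset (by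
        rw [Set.mem_preimage] at hp ⊢
        rwa [Scheme.Hom.comp_apply] at hp)
      refine ⟨q, ?_⟩
      show (j ≫ W.left.isoSpec.hom).base q = p
      rw [Scheme.Hom.comp_apply, hq, ← Scheme.Hom.comp_apply, Iso.inv_hom_id]
      rfl
  have hkinj : Function.Injective k.base := k.isOpenEmbedding.injective
  have hdiff : punctPart A Γ(W.left, ⊤) \ k.base '' C = k.base '' Cᶜ := by
    refine (congrArg (fun t => t \ k.base '' C) hrk.symm).trans ?_
    exact (Set.image_compl_eq_range_sdiff_image hkinj _).symm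
  obtain ⟨G, hG, hGC⟩ := hext Γ(W.left, ⊤) (k.base '' C) (hrk ▸ Set.image_subset_range _ _)
    (k.isOpenEmbedding.isOpenMap _ hC.2) (hdiff ▸ k.isOpenEmbedding.isOpenMap _ hC.compl.2)
  refine ⟨W.left.isoSpec.hom.base ⁻¹' G, hG.preimage W.left.isoSpec.hom.continuous, ?_⟩
  show k.base ⁻¹' G = C
  have hsub : Set.range k.base ⊆ punctPart A Γ(W.left, ⊤) := hrk.subset
  calc k.base ⁻¹' G = k.base ⁻¹' (G ∩ punctPart A Γ(W.left, ⊤)) := by
        ext q; exact ⟨fun h => ⟨h, hsub ⟨q, rfl⟩⟩, fun h => h.1⟩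
    _ = C := (congrArg (fun t => k.base ⁻¹' t) hGC).trans (Set.preimage_image_eq _ hkinj)

end

end Groth.Agent.PunctCompl
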