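import Groth.Agent.LC.PuncturedDim
import Groth.Agent.Hensel.FiniteEtaleLift
import Groth.Agent.Hensel.Local
import Groth.Agent.AlgSpDec.HenselLift2
import Groth.Agent.AdicLib.Basic
import Groth.Agent.RegLoc6.Basic
import Groth.Agent.FlatMisc.FiniteRegular
import Mathlib.RingTheory.Unramified.LocalRing

/-!
Finite étale local algebras over quotients of complete regular local rings by few elements have
preconnected punctured spectra.
-/

universe u

open IsLocalRing TensorProduct

set_option linter.style.haveILetI false

namespace Groth.Agent.PunctCompl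

/-- Punctured spectra along a surjection of local rings with the same spectrum. -/
theorem preconnected_punct_of_ringEquiv {A B : Type u} [CommRing A] [IsLocalRing A] [CommRing B] [IsLocalRing B]
    (e : A ≃+* B) (h : IsPreconnected (LC.punct A)) : IsPreconnected (LC.punct B) := by
  let φ := PrimeSpectrum.comap e.symm.toRingHom
  have himg : φ '' LC.punct A = LC.punct B := by
    ext q
    constructor
    · rintro ⟨p, hp, rfl⟩ hq
      refine hp (PrimeSpectrum.ext ?_)
      have hq' : (φ p).asIdeal = maximalIdeal B := congrArg PrimeSpectrum.asIdeal hq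
      have : p.asIdeal.IsMaximal := by
        have : Ideal.IsMaximal ((φ p).asIdeal) := hq' ▸ maximalIdeal.isMaximal B
        have heq : p.asIdeal = (φ p).asIdeal.comap e.toRingHom := Ideal.ext fun a => by
          show a ∈ p.asIdeal ↔ e.symm (e a) ∈ p.asIdeal
          rw [e.symm_apply_apply]
        exact heq ▸ Ideal.comap_isMaximal_of_surjective _ e.surjective
      exact eq_maximalIdeal this
    · intro hq
      refine ⟨PrimeSpectrum.comap e.toRingHom q, fun hp => hq ?_, ?_⟩
      · have hp' : q.asIdeal.comap e.toRingHom = maximalIdeal A := congrArg PrimeSpectrum.asIdeal hp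
        refine PrimeSpectrum.ext (eq_maximalIdeal ?_)
        have : Ideal.IsMaximal (q.asIdeal.comap e.toRingHom) := hp' ▸ maximalIdeal.isMaximal A
        have heq : q.asIdeal = (q.asIdeal.comap e.toRingHom).comap e.symm.toRingHom := Ideal.ext fun b => by
          show b ∈ q.asIdeal ↔ e (e.symm b) ∈ q.asIdeal
          rw [e.apply_symm_apply]
        exact heq ▸ Ideal.comap_isMaximal_of_surjective _ e.symm.surjective
      · refine PrimeSpectrum.ext (Ideal.ext fun b => ?_)
        show e (e.symm b) ∈ q.asIdeal ↔ b ∈ q.asIdeal
        rw [e.apply_symm_apply]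
  exact himg ▸ h.image φ (PrimeSpectrum.continuous_comap _).continuousOn

/-- The punctured spectrum of a domain is preconnected. -/
theorem preconnected_punct_of_isDomain (A : Type u) [CommRing A] [IsLocalRing A] [IsDomain A] :
    IsPreconnected (LC.punct A) := by
  refine IsPreirreducible.isPreconnected ?_
  exact ((PrimeSpectrum.irreducibleSpace (R := A)).isPreirreducible_univ).open_subset LC.isOpen_punct (Set.subset_univ _)

/-- Finite étale local algebras over a complete regular local ring. -/
theorem finite_etale_local_facts (S : Type u) [CommRing S] [IsRegularLocalRing S]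
    [IsAdicComplete (maximalIdeal S) S] (d : ℕ) (hd : ringKrullDim S = d)
    (B : Type u) [CommRing B] [Algebra S B] [Module.Finite S B] [Algebra.Etale S B] [IsLocalRing B] :
    IsNoetherianRing B ∧ IsAdicComplete (maximalIdeal B) B ∧ IsDomain B ∧ ringKrullDim B = d := by
  haveI hN : IsNoetherianRing B := IsNoetherianRing.of_finite S B
  haveI : Module.Flat S B := Algebra.Smooth.flat S B
  haveI : IsLocalHom (algebraMap S B) := by
    refine ((IsLocalRing.local_hom_TFAE (algebraMap S B)).out 0 2).2 ?_
    have : ((maximalIdeal B).under S).IsMaximal := Ideal.IsMaximal.under S (maximalIdeal B)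
    exact Ideal.map_le_iff_le_comap.2 (eq_maximalIdeal this).ge
  haveI : Module.FaithfullyFlat S B := Module.FaithfullyFlat.of_flat_of_isLocalHom
  have hinj : Function.Injective (algebraMap S B) := FaithfulSMul.algebraMap_injective S B
  have hmap : (maximalIdeal S).map (algebraMap S B) = maximalIdeal B :=
    Algebra.FormallyUnramified.map_maximalIdeal
  have hc : IsAdicComplete (maximalIdeal B) B := by
    haveI := AdicLib.isAdicComplete_of_finite (maximalIdeal S) B
    exact hmap ▸ (IsAdicComplete.map_algebraMap_iff (I := maximalIdeal S) (S := B) (M := B)).2 this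
  haveI := RegLoc6.isDomain_of_isRegularLocalRing S
  -- the dimension is at least that of the base
  have hdimge : ringKrullDim S ≤ ringKrullDim B := by
    haveI : (maximalIdeal B).LiesOver (maximalIdeal S) :=
      ⟨(eq_maximalIdeal (Ideal.IsMaximal.under S (maximalIdeal B))).symm⟩
    rw [← IsLocalRing.maximalIdeal_height_eq_ringKrullDim, ← IsLocalRing.maximalIdeal_height_eq_ringKrullDim]
    exact WithBot.coe_le_coe.2
      ((Ideal.height_eq_height_add_of_liesOver_of_hasGoingDown (maximalIdeal S) (maximalIdeal B)).symm ▸ le_self_add)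
  haveI hreg : IsRegularLocalRing B := by
    refine .of_spanFinrank_maximalIdeal_le _ ?_
    rw [← hmap]
    refine le_trans ?_ (((isRegularLocalRing_iff S).mp inferInstance).trans_le hdimge)
    have fg := (maximalIdeal S).fg_of_isNoetherianRing
    have fin := Submodule.FG.finite_generators fg
    conv_lhs => rw [← (maximalIdeal S).span_generators,
      show Submodule.span _ _ = Ideal.span _ from rfl, Ideal.map_span]
    exact_mod_cast (Submodule.spanFinrank_span_le_ncard_of_finite (fin.image _)).trans
      ((Set.ncard_image_le fin).trans (Submodule.FG.generators_ncard fg).le)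
  haveI := RegLoc6.isDomain_of_isRegularLocalRing B
  haveI : IsLocalization.AtPrime B (maximalIdeal B) :=
    IsLocalization.self fun x hx => IsLocalRing.notMem_maximalIdeal.1 hx
  haveI : (maximalIdeal B).LiesOver (maximalIdeal S) := ⟨(eq_maximalIdeal (Ideal.IsMaximal.under S (maximalIdeal B))).symm⟩
  exact ⟨hN, hc, inferInstance, (FlatMisc.FiniteRegular.ringKrullDim_eq_of_finite (maximalIdeal B) hinj).1.trans hd⟩

/-- The key connectedness statement. -/
theorem preconnected_punct_of_section (S : Type u) [CommRing S] [IsRegularLocalRing S]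
    [IsAdicComplete (maximalIdeal S) S] (d : ℕ) (hd : ringKrullDim S = d) (s : Finset S) (hs : s.card + 2 ≤ d)
    (B : Type u) [CommRing B] [Algebra (S ⧸ Ideal.span (s : Set S)) B]
    [Module.Finite (S ⧸ Ideal.span (s : Set S)) B] [Algebra.Etale (S ⧸ Ideal.span (s : Set S)) B]
    [IsLocalRing B] : IsPreconnected (LC.punct B) := by
  classical
  let I := Ideal.span (s : Set S)
  have hIdef : I = Ideal.span (s : Set S) := rfl
  have hI : I ≠ ⊤ := fun h => by
    haveI : Subsingleton (S ⧸ I) := Ideal.Quotient.subsingleton_iff.2 h
    haveI : Subsingleton B := (algebraMap (S ⧸ I) B).codomain_trivial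
    exact not_subsingleton B ‹_›
  haveI := Hensel.henselianLocalRing_of_henselianRing S
  haveI := AlgSpDec.henselianRing_of_ne_top (R := S) hI
  obtain ⟨B', _, _, hfin, het, ⟨φ⟩⟩ := Hensel.exists_finite_etale_lift (I := I) B
  let e : (B' ⧸ I.map (algebraMap S B')) ≃+* B :=
    ((Algebra.TensorProduct.quotIdealMapEquivTensorQuot B' I).toRingEquiv.trans
      (Algebra.TensorProduct.comm S B' (S ⧸ I)).toRingEquiv).trans φ.toRingEquiv
  set J := I.map (algebraMap S B') with hJdef
  haveI : Nontrivial (B' ⧸ J) := e.toEquiv.nontrivial
  haveI : IsLocalRing (B' ⧸ J) := e.symm.isLocalRing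
  haveI : Nontrivial B' := RingHom.domain_nontrivial (Ideal.Quotient.mk J)
  haveI : IsLocalRing B' := by
    refine IsLocalRing.of_unique_max_ideal ⟨(maximalIdeal (B' ⧸ J)).comap (Ideal.Quotient.mk J),
      Ideal.comap_isMaximal_of_surjective _ Ideal.Quotient.mk_surjective, fun M hM => ?_⟩
    haveI : M.IsMaximal := hM
    have hm : maximalIdeal S = M.under S := (eq_maximalIdeal (Ideal.IsMaximal.under S M)).symm
    have hJM : J ≤ M := Ideal.map_le_iff_le_comap.2 ((le_maximalIdeal hI).trans hm.le)
    have h1 : (M.map (Ideal.Quotient.mk J)).IsMaximal := by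
      refine (Ideal.map_eq_top_or_isMaximal_of_surjective _ Ideal.Quotient.mk_surjective hM).resolve_left fun h => ?_
      have := congrArg (Ideal.comap (Ideal.Quotient.mk J)) h
      rw [Ideal.comap_map_of_surjective' _ Ideal.Quotient.mk_surjective, Ideal.mk_ker, sup_eq_left.2 hJM,
        Ideal.comap_top] at this
      exact hM.ne_top this
    rw [← eq_maximalIdeal h1, Ideal.comap_map_of_surjective' _ Ideal.Quotient.mk_surjective, Ideal.mk_ker,
      sup_eq_left.2 hJM]
  obtain ⟨hN, hc, hdom, hdim⟩ := finite_etale_local_facts S d hd B'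
  refine preconnected_punct_of_ringEquiv e ?_
  by_cases hs0 : s.card = 0
  · have hJ0 : J = ⊥ := by
      rw [hJdef, hIdef, Finset.card_eq_zero.1 hs0]; simp
    exact preconnected_punct_of_ringEquiv ((RingEquiv.quotientBot B').symm.trans (Ideal.quotEquivOfEq hJ0.symm))
      (preconnected_punct_of_isDomain B')
  · haveI : IrreducibleSpace ↥(LC.punct B') := by
      haveI : Nonempty ↥(LC.punct B') := by
        refine ⟨⟨⟨⊥, Ideal.isPrime_bot⟩, fun h => ?_⟩⟩
        have h0 : maximalIdeal B' = ⊥ := (congrArg PrimeSpectrum.asIdeal h).symm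
        have hf : IsField B' := IsLocalRing.isField_iff_maximalIdeal_eq.2 h0
        rw [ringKrullDim_eq_zero_of_isField hf] at hdim
        have : (0 : ℕ) = d := by exact_mod_cast hdim
        omega
      refine { toPreirreducibleSpace := ⟨?_⟩, toNonempty := ‹_› }
      refine (Subtype.preirreducibleSpace ?_).isPreirreducible_univ
      exact ((PrimeSpectrum.irreducibleSpace (R := B')).isPreirreducible_univ).open_subset LC.isOpen_punct (Set.subset_univ _)
    have hne : Nonempty ↥(LC.punct B') := inferInstance
    have hdimU : ((d : ℕ) : WithBot ℕ∞) = topologicalKrullDim ↥(LC.punct B') + 1 := by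
      obtain ⟨x⟩ := hne
      have h0 : PrimeSpectrum.zeroLocus ((⊥ : Ideal B') : Set B') = Set.univ := by simp
      have h1 := LC.dim_zeroLocus_punct (⊥ : Ideal B') ⟨x.1, by rw [h0]; trivial, x.2⟩
      rw [LC.dim_congr (show PrimeSpectrum.zeroLocus ((⊥ : Ideal B') : Set B') ∩ LC.punct B' = LC.punct B' by
        rw [h0, Set.univ_inter]), ringKrullDim_eq_of_ringEquiv (RingEquiv.quotientBot B')] at h1
      rw [← h1, hdim]
    let f : Fin s.card → B' := fun i => algebraMap S B' (s.equivFin.symm i)
    have hrange : Ideal.span (Set.range f) = J := by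
      rw [hJdef, hIdef, Ideal.map_span]
      congr 1
      ext x
      exact ⟨fun ⟨i, hi⟩ => ⟨_, (s.equivFin.symm i).2, hi⟩,
        fun ⟨a, ha, hax⟩ => ⟨s.equivFin ⟨a, ha⟩, by simp [f, hax]⟩⟩
    haveI : IsLocalRing (B' ⧸ Ideal.span (Set.range f)) := (Ideal.quotEquivOfEq hrange).symm.isLocalRing
    have hk : 1 ≤ d - 2 := by omega
    have hdimk : topologicalKrullDim ↥(LC.punct B') = ((d - 2 + 1 : ℕ) : WithBot ℕ∞) := by
      revert hdimU
      generalize topologicalKrullDim ↥(LC.punct B') = t
      intro hdimU
      induction t using WithBot.recBotCoe with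
      | bot => rw [WithBot.bot_add] at hdimU; exact absurd hdimU (WithBot.natCast_ne_bot d)
      | coe t =>
        induction t using ENat.recTopCoe with
        | top => exact absurd (WithBot.coe_injective (hdimU.trans rfl : ((d : ℕ∞) : WithBot ℕ∞) = ((⊤ : ℕ∞) : WithBot ℕ∞))) (ENat.natCast_ne_top d)
        | coe t =>
          have : d = t + 1 := by exact_mod_cast hdimU
          have : d - 2 + 1 = t := by omega
          rw [this]; rfl
    have h := LC.linearSection_connectedInDim (A := B') hk (fun Z hZ => by
        rw [irreducibleComponents_eq_singleton, Set.mem_singleton_iff] at hZ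
        subst hZ
        rw [← hdimk]
        exact (IsHomeomorph.topologicalKrullDim_eq _ (Homeomorph.Set.univ _).isHomeomorph).ge)
      (fun Z hZ hlt => by
        refine ⟨?_, (PreirreducibleSpace.isPreirreducible_univ.open_subset hZ.isOpen_compl (Set.subset_univ _)).isPreconnected⟩
        rw [Set.nonempty_compl]
        rintro rfl
        rw [(Homeomorph.Set.univ _).isHomeomorph.topologicalKrullDim_eq, hdimk, Nat.cast_lt] at hlt
        omega)
      (m := s.card) (by omega) f (fun i => by
        have : J ≤ maximalIdeal B' := le_maximalIdeal fun h => by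
          exact not_subsingleton _ (Ideal.Quotient.subsingleton_iff.2 h)
        exact this (hrange ▸ Ideal.subset_span ⟨i, rfl⟩))
    have h2 := h.2 ∅ isClosed_empty (by
      rw [topologicalKrullDim, Order.krullDim_eq_bot_iff.2 ⟨fun C => by
        obtain ⟨x, -⟩ := C.isIrreducible'.nonempty; exact x.2⟩]
      exact WithBot.bot_lt_coe _)
    rw [Set.compl_empty] at h2
    have h3 := h2.isPreconnected.image Subtype.val continuous_subtype_val.continuousOn
    rw [Set.image_univ, Subtype.range_coe] at h3
    exact preconnected_punct_of_ringEquiv (Ideal.quotEquivOfEq hrange) h3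

end Groth.Agent.PunctCompl
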